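import Cfsg.Agent.Lib.PSLSizes75.Reduce

/-!
# Groups whose centralizer orders are those of `PSL₂(q)`: counting and the partition
-/

set_option autoImplicit false

namespace Cfsg.Agent.Lib.PSLSizes75

open Subgroup ClassSizeTop ThreeSizes

variable {X : Type*} [Group X]

/-- The order of the centralizer. -/
noncomputable def cc (x : X) : ℕ := Nat.card (cen x)

/-- Centralizer orders as in `PSL₂(q)`: here `t` stands for the order of an involution centralizer
when `q` is odd and `g = gcd(2, q - 1)`. -/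
structure Cents (X : Type*) [Group X] (q h t : ℕ) : Prop where
  card : Nat.card X = q * h * t
  cent : ∀ x : X, x ≠ 1 → cc x = q ∨ cc x = h ∨ (cc x ∣ t ∧ t ∣ 2 * cc x)
  qh : q.Coprime h
  qt : q.Coprime t
  ht : h.Coprime t
  four_le : 4 ≤ q
  h_gt : 1 < h
  t_gt : 1 < t
  h_odd : Odd h
  hg : ∃ g ≤ 2, g * (h * t) + 1 = q * q
  hh : ∃ j, q * t = 2 + h * j
  t_lt : t < 2 * q

/-- A set closed under conjugation all whose class sizes are multiples of `n`. -/
theorem dvd_ncard_of_conj [Finite X] (n : ℕ) (S : Set X)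
    (hS : ∀ x ∈ S, ∀ g : X, g * x * g⁻¹ ∈ S) (hn : ∀ x ∈ S, n ∣ idx x) : n ∣ S.ncard := by
  induction hk : S.ncard using Nat.strong_induction_on generalizing S with
  | _ k ih =>
    rcases S.eq_empty_or_nonempty with rfl | ⟨x, hx⟩
    · rw [← hk, Set.ncard_empty]; exact dvd_zero n
    have hsub : cls x ⊆ S := by
      rintro _ ⟨g, rfl⟩
      exact hS x hx g
    have e : (cls x).ncard + (S \ cls x).ncard = S.ncard := by
      rw [add_comm]; exact Set.ncard_sdiff_add_ncard_of_subset hsub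
    have hc : (cls x).ncard = idx x := by rw [← card_cls, Nat.card_coe_set_eq]
    rw [← hk, ← e, hc]
    refine Nat.dvd_add (hn x hx) (ih _ ?_ (S \ cls x) ?_ (fun y hy => hn y hy.1) rfl)
    · have := idx_pos x
      omega
    · rintro y ⟨hy, hy'⟩ g
      refine ⟨hS y hy g, fun h => hy' ?_⟩
      simpa [mul_assoc] using conj_mem_cls h g⁻¹

namespace Cents

variable [Finite X] {q h t : ℕ} (D : Cents X q h t)
include D

omit D in
theorem idx_mul_cc (x : X) : idx x * cc x = Nat.card X := by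
  rw [mul_comm]; exact (cen x).card_mul_index

omit D in
theorem orderOf_dvd_cc {x y : X} (h : y ∈ cen x) : orderOf y ∣ cc x := by
  rw [← Subgroup.orderOf_mk y h]
  exact orderOf_dvd_natCard _

omit D in
theorem cc_conj (g x : X) : cc (g * x * g⁻¹) = cc x := by
  show Nat.card (centralizer ({g * x * g⁻¹} : Set X)) = _
  rw [cent_conj]
  exact Nat.card_congr ((cen x).equivMapOfInjective _ (MulAut.conj g).injective).toEquiv.symm

omit D in
theorem exists_prime_cc {x : X} (hx : x ≠ 1) : ∃ r, r.Prime ∧ r ∣ orderOf x := by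
  refine Nat.exists_prime_and_dvd fun h => hx ?_
  exact orderOf_eq_one_iff.1 h

theorem cc_eq_q {x : X} (hx : x ≠ 1) {r : ℕ} (hr : r.Prime) (h1 : r ∣ cc x) (h2 : r ∣ q) :
    cc x = q := by
  rcases D.cent x hx with e | e | ⟨e, -⟩
  · exact e
  · exact absurd (Nat.dvd_gcd h2 (e ▸ h1)) (D.qh.gcd_eq_one ▸ hr.not_dvd_one)
  · exact absurd (Nat.dvd_gcd h2 (h1.trans e)) (D.qt.gcd_eq_one ▸ hr.not_dvd_one)

theorem cc_eq_h {x : X} (hx : x ≠ 1) {r : ℕ} (hr : r.Prime) (h1 : r ∣ cc x) (h2 : r ∣ h) :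
    cc x = h := by
  rcases D.cent x hx with e | e | ⟨e, -⟩
  · exact absurd (Nat.dvd_gcd (e ▸ h1) h2) (D.qh.gcd_eq_one ▸ hr.not_dvd_one)
  · exact e
  · exact absurd (Nat.dvd_gcd h2 (h1.trans e)) (D.ht.gcd_eq_one ▸ hr.not_dvd_one)

theorem cc_dvd_t {x : X} (hx : x ≠ 1) {r : ℕ} (hr : r.Prime) (h1 : r ∣ cc x) (h2 : r ∣ t) :
    cc x ∣ t ∧ t ∣ 2 * cc x := by
  rcases D.cent x hx with e | e | e
  · exact absurd (Nat.dvd_gcd (e ▸ h1) h2) (D.qt.gcd_eq_one ▸ hr.not_dvd_one)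
  · exact absurd (Nat.dvd_gcd (e ▸ h1) h2) (D.ht.gcd_eq_one ▸ hr.not_dvd_one)
  · exact e

theorem cc_ne_q_of_dvd_t {x : X} (hx : x ≠ 1) (h1 : cc x ∣ t) : cc x ≠ q ∧ cc x ≠ h := by
  obtain ⟨r, hr, hrd⟩ := exists_prime_cc hx
  have hrt : r ∣ t := hrd.trans ((orderOf_dvd_cc (mem_cent.2 rfl)).trans h1)
  constructor <;> intro e
  · exact absurd (Nat.dvd_gcd (e ▸ hrd.trans (orderOf_dvd_cc (mem_cent.2 rfl))) hrt)
      (D.qt.gcd_eq_one ▸ hr.not_dvd_one)
  · exact absurd (Nat.dvd_gcd (e ▸ hrd.trans (orderOf_dvd_cc (mem_cent.2 rfl))) hrt)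
      (D.ht.gcd_eq_one ▸ hr.not_dvd_one)

theorem q_ne_h : q ≠ h := fun e => by
  have h1 := D.qh
  rw [← e, Nat.coprime_self] at h1
  have := D.four_le
  omega

/-- Commuting non-identity elements are of the same kind. -/
theorem same_kind {x y : X} (hx : x ≠ 1) (hy : y ≠ 1) (hxy : y ∈ cen x) :
    (cc x = q → cc y = q) ∧ (cc x = h → cc y = h) ∧ (cc x ∣ t → cc y ∣ t ∧ t ∣ 2 * cc y) := by
  obtain ⟨r, hr, hrd⟩ := exists_prime_cc hy
  have h1 := hrd.trans (orderOf_dvd_cc hxy)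
  have h2 : r ∣ cc y := hrd.trans (orderOf_dvd_cc (mem_cent.2 rfl))
  exact ⟨fun e => D.cc_eq_q hy hr h2 (e ▸ h1), fun e => D.cc_eq_h hy hr h2 (e ▸ h1),
    fun e => D.cc_dvd_t hy hr h2 (h1.trans e)⟩

theorem exists_cc_eq_q : ∃ x : X, x ≠ 1 ∧ cc x = q := by
  obtain ⟨r, hr, hrq⟩ := Nat.exists_prime_and_dvd (show q ≠ 1 by have := D.four_le; omega)
  haveI := Fact.mk hr
  obtain ⟨x, hx⟩ := exists_prime_orderOf_dvd_card' r
    (show r ∣ Nat.card X from D.card ▸ (hrq.mul_right h).mul_right t)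
  have hx1 : x ≠ 1 := fun e => hr.ne_one (by rw [← hx, e, orderOf_one])
  exact ⟨x, hx1, D.cc_eq_q hx1 hr (hx ▸ orderOf_dvd_cc (mem_cent.2 rfl)) hrq⟩

theorem exists_cc_eq_h : ∃ x : X, x ≠ 1 ∧ cc x = h := by
  obtain ⟨r, hr, hrh⟩ := Nat.exists_prime_and_dvd (show h ≠ 1 by have := D.h_gt; omega)
  haveI := Fact.mk hr
  obtain ⟨x, hx⟩ := exists_prime_orderOf_dvd_card' r
    (show r ∣ Nat.card X from D.card ▸ (hrh.mul_left q).mul_right t)
  have hx1 : x ≠ 1 := fun e => hr.ne_one (by rw [← hx, e, orderOf_one])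
  exact ⟨x, hx1, D.cc_eq_h hx1 hr (hx ▸ orderOf_dvd_cc (mem_cent.2 rfl)) hrh⟩

/-- A prime power dividing the order divides one of the three factors. -/
theorem prime_pow_dvd {p n : ℕ} (hp : p.Prime) (hd : p ^ n ∣ Nat.card X) :
    p ^ n ∣ q ∨ p ^ n ∣ h ∨ p ^ n ∣ t := by
  rw [D.card] at hd
  rcases Nat.eq_zero_or_pos n with rfl | hn
  · simp
  by_cases hq : p ∣ q
  · left
    have h1 : p.Coprime (h * t) := hp.coprime_iff_not_dvd.2 fun hh => hp.not_dvd_one
      ((D.qh.mul_right D.qt).gcd_eq_one ▸ Nat.dvd_gcd hq hh)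
    rw [mul_assoc] at hd
    exact (h1.pow_left n).dvd_of_dvd_mul_right hd
  have h1 : p.Coprime q := hp.coprime_iff_not_dvd.2 hq
  rw [mul_assoc] at hd
  replace hd := (h1.pow_left n).dvd_of_dvd_mul_left hd
  by_cases hh : p ∣ h
  · exact Or.inr (Or.inl (((hp.coprime_iff_not_dvd.2 fun ht' => hp.not_dvd_one
      (D.ht.gcd_eq_one ▸ Nat.dvd_gcd hh ht')).pow_left n).dvd_of_dvd_mul_right hd))
  · exact Or.inr (Or.inr (((hp.coprime_iff_not_dvd.2 hh).pow_left n).dvd_of_dvd_mul_left hd))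

theorem count_add (c : ℕ) :
    {x : X | x ≠ 1 ∧ cc x = c}.ncard + {x : X | x ≠ 1 ∧ cc x ≠ c}.ncard + 1 = Nat.card X := by
  rw [← Set.ncard_union_eq (Set.disjoint_left.2 fun x hx hx' => hx'.2 hx.2) (Set.toFinite _)
    (Set.toFinite _), show {x : X | x ≠ 1 ∧ cc x = c} ∪ {x : X | x ≠ 1 ∧ cc x ≠ c} =
      Set.univ \ {1} by ext x; simp; tauto,
    Set.ncard_sdiff_singleton_add_one (Set.mem_univ 1) (Set.toFinite _), Set.ncard_univ]

omit D in
theorem count_dvd {c a : ℕ} (hc : 0 < c) (ha : a * c = Nat.card X) :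
    a ∣ {x : X | x ≠ 1 ∧ cc x = c}.ncard := by
  refine dvd_ncard_of_conj a _ (fun x hx g => ⟨fun e => hx.1 (conj_eq_one_iff.1 e), ?_⟩) ?_
  · rw [cc_conj]; exact hx.2
  · intro x hx
    have h := idx_mul_cc x
    rw [show cc x = c from hx.2, ← ha] at h
    rw [Nat.eq_of_mul_eq_mul_right hc h]

theorem count_dvd_others {c : ℕ} (hc : c = q ∨ c = h) :
    c ∣ {x : X | x ≠ 1 ∧ cc x ≠ c}.ncard := by
  refine dvd_ncard_of_conj c _ (fun x hx g => ⟨fun e => hx.1 (conj_eq_one_iff.1 e), ?_⟩) ?_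
  · rw [cc_conj]; exact hx.2
  · intro x hx
    have hcop : c.Coprime (cc x) := by
      rcases hc with rfl | rfl
      · rcases D.cent x hx.1 with e | e | ⟨e, -⟩
        · exact absurd e hx.2
        · exact e ▸ D.qh
        · exact D.qt.coprime_dvd_right e
      · rcases D.cent x hx.1 with e | e | ⟨e, -⟩
        · exact e ▸ D.qh.symm
        · exact absurd e hx.2
        · exact D.ht.coprime_dvd_right e
    refine hcop.dvd_of_dvd_mul_right ?_
    rw [idx_mul_cc, D.card]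
    rcases hc with rfl | rfl
    · exact (dvd_mul_right _ _).mul_right _
    · exact (dvd_mul_left _ _).mul_right _

theorem ncard_cc_q : {x : X | x ≠ 1 ∧ cc x = q}.ncard + 1 = q * q := by
  obtain ⟨g, hg2, hg⟩ := D.hg
  have hq := D.four_le
  obtain ⟨n, hn⟩ := count_dvd (X := X) (a := h * t) (c := q) (by omega) (by rw [D.card]; ring)
  obtain ⟨b, hb⟩ := D.count_dvd_others (Or.inl rfl)
  have hadd := D.count_add q
  rw [hn, hb, D.card] at hadd
  have hpos : 0 < h * t := Nat.mul_pos (by have := D.h_gt; omega) (by have := D.t_gt; omega)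
  have hlt : n < q := by
    by_contra hle
    have := Nat.mul_le_mul_left (h * t) (not_lt.1 hle)
    linarith
  have key : ((h * t : ℕ) : ℤ) * ((g : ℤ) - n) = (q : ℤ) * (q - h * t + b) := by
    have h1 : ((h * t * n + q * b + 1 : ℕ) : ℤ) = ((q * h * t : ℕ) : ℤ) := by exact_mod_cast hadd
    have h2 : ((g * (h * t) + 1 : ℕ) : ℤ) = ((q * q : ℕ) : ℤ) := by exact_mod_cast hg
    push_cast at h1 h2 ⊢
    linarith
  have hdvd : (q : ℤ) ∣ (g : ℤ) - n := by
    have hco : Int.gcd (q : ℤ) ((h * t : ℕ) : ℤ) = 1 := by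
      rw [Int.gcd_natCast_natCast]; exact D.qh.mul_right D.qt
    exact Int.dvd_of_dvd_mul_right_of_gcd_one ⟨_, key⟩ hco
  have hng : (g : ℤ) - n = 0 := by
    refine Int.eq_zero_of_abs_lt_dvd hdvd ?_
    rw [abs_lt]; omega
  rw [hn, show n = g by omega, mul_comm, hg]

theorem ncard_cc_h : 2 * {x : X | x ≠ 1 ∧ cc x = h}.ncard + q * t = q * h * t := by
  obtain ⟨j, hj⟩ := D.hh
  have hh1 := D.h_gt
  obtain ⟨m, hm⟩ := count_dvd (X := X) (a := q * t) (c := h) (by omega) (by rw [D.card]; ring)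
  obtain ⟨b, hb⟩ := D.count_dvd_others (Or.inr rfl)
  have hadd := D.count_add h
  rw [hm, hb, D.card] at hadd
  rw [hm]
  have hlt : m < h := by
    by_contra hle
    have := Nat.mul_le_mul_left (q * t) (not_lt.1 hle)
    linarith
  have hd : h ∣ 2 * m + 1 := by
    have e : 2 * m + 1 + h * (b + m * j) = q * h * t := by rw [← hadd, hj]; ring
    exact (Nat.dvd_add_left (dvd_mul_right h _)).1 (e ▸ (dvd_mul_left h q).mul_right t)
  obtain ⟨k, hk⟩ := hd
  have hk1 : k = 1 := by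
    have hk2 : k < 2 := by
      by_contra hk'
      have := Nat.mul_le_mul_left h (not_lt.1 hk')
      omega
    rcases Nat.eq_zero_or_pos k with rfl | h0
    · omega
    · omega
  rw [hk1, mul_one] at hk
  calc 2 * (q * t * m) + q * t = q * t * (2 * m + 1) := by ring
    _ = q * h * t := by rw [hk]; ring

/-- The three kinds of elements each make up less than half of the group. -/
theorem false_of_outside (N : Subgroup X) (hN : N ≠ ⊤) {d : ℕ} (hd : d = q ∨ d = h ∨ d = t)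
    (hout : ∀ x, x ∉ N → ∃ r, r.Prime ∧ r ∣ cc x ∧ r ∣ d) : False := by
  have hhalf : Nat.card X ≤ 2 * {x : X | x ∉ N}.ncard := by
    have e : (N : Set X).ncard + {x : X | x ∉ N}.ncard = Nat.card X :=
      Set.ncard_add_ncard_compl _
    have h1 : (N : Set X).ncard = Nat.card N := rfl
    have h2 := N.card_mul_index
    have h3 : 2 ≤ N.index := by
      have := N.index_ne_zero_of_finite
      have : N.index ≠ 1 := fun e' => hN (index_eq_one.1 e')
      omega
    have := Nat.mul_le_mul_left (Nat.card N) h3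
    omega
  have hcard := D.card
  have hq := D.four_le
  have hpos : 0 < q * t := Nat.mul_pos (by omega) (by have := D.t_gt; omega)
  have h1 := D.ncard_cc_q
  have h2 := D.ncard_cc_h
  have hne : ∀ x, x ∉ N → x ≠ 1 := fun x hx e => hx (e ▸ one_mem N)
  rcases hd with rfl | rfl | rfl
  · have hle := Set.ncard_le_ncard (show {x : X | x ∉ N} ⊆ {x | x ≠ 1 ∧ cc x = d} from fun x hx => by
      obtain ⟨r, hr, hr1, hr2⟩ := hout x hx
      exact ⟨hne x hx, D.cc_eq_q (hne x hx) hr hr1 hr2⟩) (Set.toFinite _)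
    obtain ⟨g, hg2, hg⟩ := D.hg
    have h0 : 0 < h * t := Nat.mul_pos (by have := D.h_gt; omega) (by have := D.t_gt; omega)
    have h4 : g * (h * t) ≤ 2 * (h * t) := Nat.mul_le_mul_right _ hg2
    rcases hq.eq_or_lt with rfl | hlt
    · rcases (show g = 0 ∨ g = 1 ∨ g = 2 by omega) with rfl | rfl | rfl <;> first | omega | linarith
    · have h3 : 5 * (h * t) ≤ d * (h * t) := Nat.mul_le_mul_right _ hlt
      linarith
  · have hle := Set.ncard_le_ncard (show {x : X | x ∉ N} ⊆ {x | x ≠ 1 ∧ cc x = d} from fun x hx => by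
      obtain ⟨r, hr, hr1, hr2⟩ := hout x hx
      exact ⟨hne x hx, D.cc_eq_h (hne x hx) hr hr1 hr2⟩) (Set.toFinite _)
    omega
  · have hdisj : Disjoint ({x : X | x ∉ N}) ({x | x ≠ 1 ∧ cc x = q} ∪ {x | x ≠ 1 ∧ cc x = h}) :=
      Set.disjoint_left.2 fun x hx hx' => by
        obtain ⟨r, hr, hr1, hr2⟩ := hout x hx
        obtain ⟨e1, e2⟩ := D.cc_ne_q_of_dvd_t (hne x hx) (D.cc_dvd_t (hne x hx) hr hr1 hr2).1
        rcases hx' with hx' | hx'
        · exact e1 hx'.2
        · exact e2 hx'.2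
    have hle := Set.ncard_le_ncard
      (show {x : X | x ∉ N} ∪ ({x | x ≠ 1 ∧ cc x = q} ∪ {x | x ≠ 1 ∧ cc x = h}) ⊆
        (Set.univ \ {1} : Set X) from by
        rintro x (hx | hx | hx)
        · exact ⟨trivial, hne x hx⟩
        · exact ⟨trivial, hx.1⟩
        · exact ⟨trivial, hx.1⟩) (Set.toFinite _)
    rw [Set.ncard_union_eq hdisj (Set.toFinite _) (Set.toFinite _),
      Set.ncard_union_eq (Set.disjoint_left.2 fun x hx hx' => D.q_ne_h (hx.2.symm.trans hx'.2))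
        (Set.toFinite _) (Set.toFinite _)] at hle
    have e := Set.ncard_sdiff_singleton_add_one (Set.mem_univ (1 : X)) (Set.toFinite _)
    rw [Set.ncard_univ] at e
    have h3 : q * d < q * (2 * q) := Nat.mul_lt_mul_of_pos_left D.t_lt (by omega)
    linarith

end Cents

end Cfsg.Agent.Lib.PSLSizes75
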