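import Cfsg.Agent.Lib.PSLSizes75.Cents

/-!
# The partition of a group with the centralizer orders of `PSL₂(q)`
-/

set_option autoImplicit false

namespace Cfsg.Agent.Lib.PSLSizes75

open Subgroup ClassSizeTop ThreeSizes

variable {X : Type*} [Group X] [Finite X]

theorem pow_two_mem_of_relIndex_le {A B : Subgroup X} (hBA : B ≤ A) (h : Nat.card A ∣ 2 * Nat.card B)
    {y : X} (hy : y ∈ A) : y ^ 2 ∈ B := by
  have hB : 0 < Nat.card B := Nat.card_pos
  have e : B.relIndex A * Nat.card B = Nat.card A := by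
    rw [mul_comm, relIndex, ← Nat.card_congr (subgroupOfEquivOfLe hBA).toEquiv]
    exact (B.subgroupOf A).card_mul_index
  have hd : B.relIndex A ∣ 2 := (Nat.mul_dvd_mul_iff_right hB).1 (e ▸ h)
  rcases (Nat.dvd_prime Nat.prime_two).1 hd with h1 | h1
  · exact pow_mem (relIndex_eq_one.1 h1 hy) 2
  · exact mem_subgroupOf.1 (Subgroup.sq_mem_of_index_two h1 (⟨y, hy⟩ : A))

/-- The centre of the centralizer, as a subgroup of the group. -/
def zc (x : X) : Subgroup X := cen x ⊓ centralizer (cen x : Set X)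

omit [Finite X] in
theorem mem_zc {x y : X} : y ∈ zc x ↔ cen x ≤ cen y := by
  constructor
  · intro h z hz
    exact mem_cent.2 (mem_centralizer_iff.1 h.2 z hz)
  · intro h
    exact ⟨mem_cen_comm (h (mem_cent.2 rfl)),
      mem_centralizer_iff.2 fun z hz => mem_cent.1 (h hz)⟩

namespace Cents

variable {q h t : ℕ} (D : Cents X q h t)
include D

/-- Centralizers which are comparable are equal when one of them is of full size. -/
theorem cen_eq_of_le_full {x y : X} (hx : x ≠ 1) (hy : y ≠ 1) (hle : cen x ≤ cen y)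
    (hfull : cc x = q ∨ cc x = h ∨ cc x = t) : cen x = cen y := by
  obtain ⟨h1, h2, h3⟩ := D.same_kind hx hy (mem_cen_comm (hle (mem_cent.2 rfl)))
  refine eq_of_le_of_card_ge hle ?_
  show cc y ≤ cc x
  rcases hfull with e | e | e
  · rw [h1 e, e]
  · rw [h2 e, e]
  · rw [e]
    exact Nat.le_of_dvd (by have := D.t_gt; omega) (h3 (e ▸ dvd_rfl)).1

theorem zc_eq {x y : X} (hx : x ≠ 1) (hy : y ≠ 1) (hxy : y ∈ zc x)
    (hfull : cc x = q ∨ cc x = h ∨ cc x = t) : cen y = cen x ∧ zc y = zc x := by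
  have e := D.cen_eq_of_le_full hx hy (mem_zc.1 hxy) hfull
  exact ⟨e.symm, by rw [zc, zc, e]⟩

/-- An element commuting with a non-identity element of coprime order, in a centralizer of order
dividing `t`, is centralized by all elements of odd order there. -/
theorem odd_le_cen {v b : X} (hv : v ≠ 1) (hvt : cc v ∣ t) (hb : b ∈ cen v)
    (hco : (orderOf v).Coprime (orderOf b)) {y : X} (hy : y ∈ cen v) (hodd : Odd (orderOf y)) :
    y ∈ cen b := by
  have hc : Commute v b := (mem_cent.1 hb).symm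
  have hm : cen (v * b) = cen v ⊓ cen b := cent_mul_of_coprime hc hco
  have hne : v * b ≠ 1 := fun e => hv (by
    have h1 := mem_zpowers_mul hc hco
    rw [e, Subgroup.zpowers_one_eq_bot, Subgroup.mem_bot] at h1
    exact h1)
  have h1 := (D.same_kind hv hne
    ((hm.le.trans inf_le_left) (mem_cent.2 rfl : v * b ∈ cen (v * b)))).2.2 hvt
  have h2 := pow_two_mem_of_relIndex_le (A := cen v) (B := cen (v * b)) (hm.le.trans inf_le_left)
    (hvt.trans h1.2) hy
  obtain ⟨k, hk⟩ := exists_pow_eq_self_of_coprime (x := y) (n := 2)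
    (Nat.coprime_two_left.2 hodd)
  rw [← hk]
  exact pow_mem ((hm.le.trans inf_le_right) h2) k

theorem exists_involution_in {a : X} (ha : a ≠ 1) (hat : cc a ∣ t) (h4 : 4 ∣ t) :
    ∃ w ∈ cen a, orderOf w = 2 := by
  obtain ⟨-, -, h3⟩ := D.same_kind ha ha (mem_cent.2 rfl)
  have h2 : 2 ∣ cc a := by
    obtain ⟨k, hk⟩ := (h4.trans (h3 hat).2)
    omega
  haveI := Fact.mk Nat.prime_two
  obtain ⟨⟨w, hw⟩, hw2⟩ := exists_prime_orderOf_dvd_card' 2 h2
  exact ⟨w, hw, by rwa [Subgroup.orderOf_mk] at hw2⟩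

/-- The centralizer of an element of odd order of the `t` kind. -/
theorem cen_le_of_odd {a f : X} (ha : a ≠ 1) (hat : cc a ∣ t) (h4 : 4 ∣ t) (hao : Odd (orderOf a))
    (hfo : Odd (orderOf f)) (hfa : f ∈ cen a) : cen a ≤ cen f := by
  intro y hy
  refine mem_of_parts fun p hp u hu hue => ?_
  have hua : u ∈ cen a := (zpowers_le.2 hy) hu
  obtain ⟨k, hk⟩ := hue.orderOf_dvd
  rcases hp.eq_two_or_odd' with rfl | hpo
  · rcases eq_or_ne u 1 with rfl | hu1
    · exact one_mem _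
    have hco : (orderOf a).Coprime (orderOf u) :=
      (((Nat.coprime_two_left.2 hao).pow_left k).coprime_dvd_left hk).symm
    exact mem_cen_comm (D.odd_le_cen ha hat hua hco hfa hfo)
  · have huo : Odd (orderOf u) := Odd.of_dvd_nat (hpo.pow) hk
    obtain ⟨w, hwa, hw⟩ := D.exists_involution_in ha hat h4
    have hw1 : w ≠ 1 := fun e => by rw [e, orderOf_one] at hw; omega
    have hwt := ((D.same_kind ha hw1 hwa).2.2 hat).1
    have hoddw : ∀ z : X, Odd (orderOf z) → (orderOf a).Coprime (orderOf w) → z ∈ cen a → z ∈ cen w :=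
      fun z hz hc hza => D.odd_le_cen ha hat hwa hc hza hz
    have haw : (orderOf a).Coprime (orderOf w) := hw ▸ (Nat.coprime_two_right.2 hao)
    exact D.odd_le_cen hw1 hwt (hoddw f hfo haw hfa) (hw ▸ Nat.coprime_two_left.2 hfo)
      (hoddw u huo haw hua) huo

theorem cen_eq_of_odd {a f : X} (ha : a ≠ 1) (hf : f ≠ 1) (hat : cc a ∣ t) (h4 : 4 ∣ t)
    (hao : Odd (orderOf a)) (hfo : Odd (orderOf f)) (hfa : f ∈ cen a) : cen f = cen a :=
  le_antisymm (D.cen_le_of_odd hf ((D.same_kind ha hf hfa).2.2 hat).1 h4 hfo hao (mem_cen_comm hfa))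
    (D.cen_le_of_odd ha hat h4 hao hfo hfa)

/-- The group has a nontrivial partition, if `t` is odd or is divisible by `4` and by an odd
prime. -/
theorem exists_partition (ht : Odd t ∨ 4 ∣ t ∧ ∃ r, r.Prime ∧ r ≠ 2 ∧ r ∣ t) :
    ∃ S : Set (Subgroup X), (∃ H ∈ S, ∃ K ∈ S, H ≠ K) ∧ (∀ H ∈ S, H ≠ ⊥) ∧
      ∀ g : X, g ≠ 1 → ∃! H : Subgroup X, H ∈ S ∧ g ∈ H := by
  classical
  -- kinds of elements
  have hkind : ∀ x : X, x ≠ 1 → (cc x = q ∨ cc x = h ∨ cc x = t) ∨
      (4 ∣ t ∧ cc x ∣ t ∧ ∃ a ∈ cen x, a ≠ 1 ∧ Odd (orderOf a)) := by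
    intro x hx
    rcases D.cent x hx with e | e | ⟨e1, e2⟩
    · exact Or.inl (Or.inl e)
    · exact Or.inl (Or.inr (Or.inl e))
    rcases ht with hodd | ⟨h4, r, hr, hr2, hrt⟩
    · exact Or.inl (Or.inr (Or.inr (Nat.dvd_antisymm e1
        ((Nat.coprime_two_right.2 hodd).dvd_of_dvd_mul_left e2))))
    haveI := Fact.mk hr
    have hrc : r ∣ cc x :=
      ((Nat.coprime_primes hr Nat.prime_two).2 hr2).dvd_of_dvd_mul_left (hrt.trans e2)
    obtain ⟨⟨a, ha⟩, hra⟩ := exists_prime_orderOf_dvd_card' r hrc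
    rw [Subgroup.orderOf_mk] at hra
    exact Or.inr ⟨h4, e1, a, ha, fun e => hr.ne_one (by rw [← hra, e, orderOf_one]),
      hra ▸ hr.eq_two_or_odd'.resolve_left hr2⟩
  let M : X → Subgroup X := fun x =>
    if cc x = q ∨ cc x = h then zc x
    else if Odd t then zc x
    else if hh : ∃ a ∈ cen x, a ≠ 1 ∧ Odd (orderOf a) then cen hh.choose else ⊥
  have hMmem : ∀ x : X, x ≠ 1 → x ∈ M x := by
    intro x hx
    simp only [M]
    split_ifs with h1 h2 h3
    · exact mem_zc.2 le_rfl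
    · exact mem_zc.2 le_rfl
    · exact mem_cen_comm h3.choose_spec.1
    · rcases hkind x hx with (e | e | e) | ⟨-, -, e⟩
      · exact absurd (Or.inl e) h1
      · exact absurd (Or.inr e) h1
      · rcases ht with ht | ⟨h4, r, hr, hr2, hrt⟩
        · exact absurd ht h2
        · haveI := Fact.mk hr
          obtain ⟨⟨a, ha⟩, hra⟩ := exists_prime_orderOf_dvd_card' r
            (show r ∣ Nat.card (cen x) from hrt.trans (dvd_of_eq e.symm))
          rw [Subgroup.orderOf_mk] at hra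
          exact absurd ⟨a, ha, fun e' => hr.ne_one (by rw [← hra, e', orderOf_one]),
            hra ▸ hr.eq_two_or_odd'.resolve_left hr2⟩ h3
      · exact absurd e h3
  have hMeq : ∀ x y : X, x ≠ 1 → y ≠ 1 → y ∈ M x → M y = M x := by
    intro x y hx hy hxy
    by_cases h1 : cc x = q ∨ cc x = h
    · have hMx : M x = zc x := if_pos h1
      rw [hMx] at hxy ⊢
      obtain ⟨e, e'⟩ := D.zc_eq hx hy hxy (h1.imp_right Or.inl)
      rw [← e']
      refine if_pos ?_
      show Nat.card (cen y) = q ∨ Nat.card (cen y) = h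
      rw [e]; exact h1
    by_cases h2 : Odd t
    · have hMx : M x = zc x := by simp only [M, if_neg h1, if_pos h2]
      rw [hMx] at hxy ⊢
      have hxt : cc x = t := by
        rcases hkind x hx with (e | e | e) | ⟨h4, -, -⟩
        · exact absurd (Or.inl e) h1
        · exact absurd (Or.inr e) h1
        · exact e
        · exfalso; obtain ⟨k, hk⟩ := h4; obtain ⟨j, hj⟩ := h2; omega
      obtain ⟨e, e'⟩ := D.zc_eq hx hy hxy (Or.inr (Or.inr hxt))
      rw [← e']
      have h1' : ¬ (cc y = q ∨ cc y = h) := by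
        show ¬ (Nat.card (cen y) = q ∨ Nat.card (cen y) = h)
        rw [e]; exact h1
      simp only [M, if_neg h1', if_pos h2]
    obtain ⟨h4, r, hr, hr2, hrt⟩ := ht.resolve_left h2
    have hxt : cc x ∣ t := by
      rcases D.cent x hx with e | e | e
      · exact absurd (Or.inl e) h1
      · exact absurd (Or.inr e) h1
      · exact e.1
    by_cases h3 : ∃ a ∈ cen x, a ≠ 1 ∧ Odd (orderOf a)
    swap
    · exfalso
      have := hMmem x hx
      simp only [M, if_neg h1, if_neg h2, dif_neg h3, Subgroup.mem_bot] at this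
      exact hx this
    have hMx : M x = cen h3.choose := by simp only [M, if_neg h1, if_neg h2, dif_pos h3]
    rw [hMx] at hxy ⊢
    obtain ⟨hax, ha1, hao⟩ := h3.choose_spec
    generalize h3.choose = a at hax ha1 hao hxy
    have hat : cc a ∣ t := ((D.same_kind hx ha1 hax).2.2 hxt).1
    have hyt : cc y ∣ t := ((D.same_kind ha1 hy hxy).2.2 hat).1
    have h1' : ¬ (cc y = q ∨ cc y = h) :=
      fun e => e.elim (D.cc_ne_q_of_dvd_t hy hyt).1 (D.cc_ne_q_of_dvd_t hy hyt).2
    have h3' : ∃ a ∈ cen y, a ≠ 1 ∧ Odd (orderOf a) := ⟨a, mem_cen_comm hxy, ha1, hao⟩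
    simp only [M, if_neg h1', if_neg h2, dif_pos h3']
    obtain ⟨hby, hb1, hbo⟩ := h3'.choose_spec
    generalize h3'.choose = b at hby hb1 hbo
    haveI : Fact (Nat.Prime 2) := ⟨Nat.prime_two⟩
    obtain ⟨u, o, hyuo, -, hu, hoo, huy, hoy⟩ := exists_el_part 2 y
    by_cases ho1 : o = 1
    · rw [ho1, mul_one] at hyuo
      obtain ⟨k, hk⟩ := hu.orderOf_dvd
      have hco : (orderOf y).Coprime (orderOf b) :=
        ((Nat.coprime_two_left.2 hbo).pow_left k).coprime_dvd_left (hyuo ▸ hk)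
      have hab : a ∈ cen b := D.odd_le_cen hy hyt hby hco (mem_cen_comm hxy) hao
      exact D.cen_eq_of_odd ha1 hb1 hat h4 hao hbo (mem_cen_comm hab)
    · have hoo' : Odd (orderOf o) := Nat.coprime_two_right.1 hoo
      have hbt : cc b ∣ t := ((D.same_kind hy hb1 hby).2.2 hyt).1
      rw [← D.cen_eq_of_odd ha1 ho1 hat h4 hao hoo' ((zpowers_le.2 hxy) hoy),
        D.cen_eq_of_odd hb1 ho1 hbt h4 hbo hoo' ((zpowers_le.2 (mem_cen_comm hby)) hoy)]
  obtain ⟨x, hx, hxq⟩ := D.exists_cc_eq_q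
  obtain ⟨y, hy, hyh⟩ := D.exists_cc_eq_h
  refine ⟨{H | ∃ z : X, z ≠ 1 ∧ M z = H}, ⟨M x, ⟨x, hx, rfl⟩, M y, ⟨y, hy, rfl⟩, fun e => ?_⟩, ?_,
    fun g hg => ⟨M g, ⟨⟨g, hg, rfl⟩, hMmem g hg⟩, ?_⟩⟩
  · have hxy : y ∈ zc x := by
      have := hMmem y hy
      rwa [← e, show M x = zc x from if_pos (Or.inl hxq)] at this
    exact D.q_ne_h (((D.same_kind hx hy (mem_inf.1 hxy).1).1 hxq).symm.trans hyh)
  · rintro _ ⟨z, hz, rfl⟩ e
    exact hz (Subgroup.mem_bot.1 (e ▸ hMmem z hz))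
  · rintro H ⟨⟨z, hz, rfl⟩, hgz⟩
    exact (hMeq z g hz hg hgz).symm

end Cents

end Cfsg.Agent.Lib.PSLSizes75
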