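import Cfsg.Agent.Lib.PSLSizes75.Cents
import Cfsg.Agent.S0339
import Cfsg.Agent.S0340

/-!
# Centralizer orders of `PSL₂(q)` with abelian Sylow subgroups: a Zassenhaus group
-/

set_option autoImplicit false

namespace Cfsg.Agent.Lib.PSLSizes75

open Subgroup ClassSizeTop ThreeSizes MulAction
open scoped IsMulCommutative

namespace Cents

variable {X : Type*} [Group X] [Finite X] {q h t : ℕ} (D : Cents X q h t)
include D

theorem zassenhaus_case {p f e : ℕ} (hp : p.Prime) (hq : q = p ^ f) (hf : f = 1 ∨ f = 2)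
    (he : q = 2 * e + 1) (hed : e ∣ h ∨ e ∣ t) (hht : 2 * (h * t) + 1 = q * q) :
    (∃ (F : Type) (_ : Field F) (_ : Fintype F),
      Nonempty (X ≃* Matrix.ProjectiveSpecialLinearGroup (Fin 2) F)) ∨ Cfsg.IsSuzuki X := by
  classical
  haveI := Fact.mk hp
  haveI : Fintype (Sylow p X) := Fintype.ofFinite _
  have hq4 := D.four_le
  have hpq : p ∣ q := by
    rw [hq]; exact dvd_pow_self p (by omega)
  have hord : ∀ P : Sylow p X, Nat.card (P : Subgroup X) = q := by
    intro P
    obtain ⟨a, ha⟩ := IsPGroup.iff_card.1 P.isPGroup'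
    have h1 := Subgroup.card_subgroup_dvd_card (P : Subgroup X)
    have h2 : Nat.card (P : Subgroup X) ∣ q := by
      rw [ha] at h1 ⊢
      rcases D.prime_pow_dvd hp h1 with h3 | h3 | h3
      · exact h3
      · rcases Nat.eq_zero_or_pos a with rfl | ha0
        · simp
        · exact absurd (D.qh.gcd_eq_one ▸ Nat.dvd_gcd hpq ((dvd_pow_self p ha0.ne').trans h3))
            hp.not_dvd_one
      · rcases Nat.eq_zero_or_pos a with rfl | ha0
        · simp
        · exact absurd (D.qt.gcd_eq_one ▸ Nat.dvd_gcd hpq ((dvd_pow_self p ha0.ne').trans h3))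
            hp.not_dvd_one
    refine Nat.dvd_antisymm h2 ?_
    rw [hq]
    exact P.pow_dvd_card_of_pow_dvd_card (by
      rw [D.card, ← hq]; exact (dvd_mul_right q h).mul_right t)
  have hcen : ∀ (P : Sylow p X) (x : X), x ∈ (P : Subgroup X) → x ≠ 1 →
      cen x = (P : Subgroup X) := by
    intro P x hx hx1
    have hcomm : ∀ a ∈ (P : Subgroup X), ∀ b ∈ (P : Subgroup X), a * b = b * a := by
      intro a ha b hb
      haveI : IsMulCommutative (P : Subgroup X) := by
        rcases hf with rfl | rfl
        · rw [pow_one] at hq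
          haveI : IsCyclic (P : Subgroup X) := isCyclic_of_prime_card (p := p) (by rw [hord, hq])
          exact IsCyclic.commutative
        · exact IsPGroup.isMulCommutative_of_card_eq_prime_sq (p := p) (G := (P : Subgroup X))
            (by rw [hord, hq])
      exact congrArg Subtype.val (mul_comm (⟨a, ha⟩ : (P : Subgroup X)) ⟨b, hb⟩)
    obtain ⟨k, hk⟩ := IsPGroup.iff_orderOf.1 P.isPGroup' ⟨x, hx⟩
    have hd : p ∣ orderOf x := by
      rw [← Subgroup.orderOf_mk x hx, hk]
      exact dvd_pow_self p fun h0 => hx1 (by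
        rw [h0, pow_zero, orderOf_eq_one_iff] at hk
        exact congrArg Subtype.val hk)
    have hc := D.cc_eq_q hx1 hp (hd.trans (orderOf_dvd_cc (mem_cent.2 rfl))) hpq
    refine (eq_of_le_of_card_ge (fun y hy => mem_cent.2 (hcomm y hy x hx)) ?_).symm
    show cc x ≤ _
    rw [hc, hord]
  -- the number of Sylow subgroups
  have hn : Nat.card (Sylow p X) = q + 1 := by
    have e1 : Nat.card {x : X // x ≠ 1 ∧ cc x = q} = Nat.card (Sylow p X) * (q - 1) := by
      let g : (Σ P : Sylow p X, {y : (P : Subgroup X) // y ≠ 1}) → {x : X // x ≠ 1 ∧ cc x = q} :=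
        fun s => ⟨s.2.1, fun e' => s.2.2 (Subtype.ext e'), by
          show Nat.card (cen (s.2.1 : X)) = q
          rw [hcen s.1 _ s.2.1.2 (fun e' => s.2.2 (Subtype.ext e')), hord]⟩
      have hg : Function.Bijective g := by
        constructor
        · rintro ⟨P, ⟨y, hy⟩, hy1⟩ ⟨Q, ⟨z, hz⟩, hz1⟩ heq
          have heq' : y = z := congrArg Subtype.val heq
          subst heq'
          have hne : y ≠ 1 := fun e' => hy1 (Subtype.ext e')
          have hPQ : P = Q := Sylow.ext ((hcen P y hy hne).symm.trans (hcen Q y hz hne))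
          subst hPQ
          rfl
        · rintro ⟨x, hx1, hxq⟩
          have hxp : IsPGroup p (zpowers x) := by
            have hd : orderOf x ∣ p ^ f :=
              hq ▸ hxq ▸ orderOf_dvd_cc (mem_cent.2 rfl : x ∈ cen x)
            obtain ⟨j, -, hj⟩ := (Nat.dvd_prime_pow hp).1 hd
            exact IsPGroup.of_card (n := j) (by rw [Nat.card_zpowers, hj])
          obtain ⟨P, hP⟩ := hxp.exists_le_sylow
          exact ⟨⟨P, ⟨x, hP (mem_zpowers x)⟩, fun e' => hx1 (congrArg Subtype.val e')⟩, rfl⟩
      rw [← Nat.card_congr (Equiv.ofBijective g hg), Nat.card_sigma]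
      have hh : ∀ P : Sylow p X, Nat.card {y : (P : Subgroup X) // y ≠ 1} = q - 1 := fun P => by
        haveI : Fintype (P : Subgroup X) := Fintype.ofFinite _
        rw [Nat.card_eq_fintype_card, Fintype.card_subtype_compl, Fintype.card_subtype_eq,
          ← Nat.card_eq_fintype_card, hord]
      rw [Finset.sum_congr rfl (fun P _ => hh P), Finset.sum_const, smul_eq_mul, Finset.card_univ,
        ← Nat.card_eq_fintype_card]
    have e2 := D.ncard_cc_q
    rw [← Nat.card_coe_set_eq] at e2
    have e3 : Nat.card {x : X // x ≠ 1 ∧ cc x = q} + 1 = q * q := e2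
    rw [e1] at e3
    have hq1 : 1 ≤ q := by omega
    have : (Nat.card (Sylow p X)) * (q - 1) = (q + 1) * (q - 1) := by
      zify [hq1] at e3 ⊢
      linarith
    exact Nat.eq_of_mul_eq_mul_right (by omega) this
  haveI : Finite (Sylow p X) := inferInstance
  -- a Sylow subgroup is semiregular on the others
  have hsemi : ∀ (P Q : Sylow p X) (g : X), g ∈ (P : Subgroup X) → g ≠ 1 → g • Q = Q → Q = P := by
    intro P Q g hg hg1 hfix
    have hgQ : g ∈ (P : Subgroup X) ⊓ (Q : Subgroup X) :=
      (P.isPGroup'.inf_normalizer_sylow Q).le ⟨hg, Sylow.smul_eq_iff_mem_normalizer.1 hfix⟩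
    exact Sylow.ext ((hcen Q g hgQ.2 hg1).symm.trans (hcen P g hg hg1))
  have hfixP : ∀ (P : Sylow p X) (u : X), u ∈ (P : Subgroup X) → u • P = P := fun P u hu => by
    exact Sylow.smul_eq_iff_mem_normalizer.2 (le_normalizer hu)
  have htrans : ∀ P Q R : Sylow p X, Q ≠ P → R ≠ P → ∃ u ∈ (P : Subgroup X), u • Q = R := by
    intro P Q R hQ hR
    let φ : ↥(P : Subgroup X) → {S : Sylow p X // S ≠ P} := fun u => ⟨(u : X) • Q, fun e' => hQ (by
      exact (MulAction.injective (u : X)) (e'.trans (hfixP P u u.2).symm))⟩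
    have hφ : Function.Bijective φ := by
      refine Function.Injective.bijective_of_nat_card_le (fun u v huv => ?_) (le_of_eq ?_)
      · by_contra hne
        have h1 : (u : X) • Q = (v : X) • Q := congrArg Subtype.val huv
        refine hQ (hsemi P Q ((v : X)⁻¹ * u) (mul_mem (inv_mem v.2) u.2) ?_ ?_)
        · exact fun e' => hne (Subtype.ext (inv_mul_eq_one.1 e').symm)
        · rw [mul_smul, h1, inv_smul_smul]
      · rw [hord, Nat.card_eq_fintype_card, Fintype.card_subtype_compl, Fintype.card_subtype_eq,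
          ← Nat.card_eq_fintype_card, hn]
        omega
    obtain ⟨u, hu⟩ := hφ.2 ⟨R, hR⟩
    exact ⟨u, u.2, congrArg Subtype.val hu⟩
  have h2t : IsMultiplyPretransitive X (Sylow p X) 2 := by
    rw [is_two_pretransitive_iff]
    intro a b c d hab hcd
    obtain ⟨g, hg⟩ := MulAction.exists_smul_eq X a c
    obtain ⟨u, hu, hu'⟩ := htrans c (g • b) d
      (fun e' => hab ((MulAction.injective g) (e'.trans hg.symm)).symm) hcd.symm
    exact ⟨u * g, by rw [mul_smul, hg, hfixP c u hu], by rw [mul_smul, hu']⟩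
  have hthree : ∀ g : X, ∀ a b c : Sylow p X, a ≠ b → b ≠ c → a ≠ c → g • a = a → g • b = b →
      g • c = c → g = 1 := by
    intro g a b c hab hbc hac hga hgb hgc
    obtain ⟨u, hu, hub⟩ := htrans a b c hab.symm hac.symm
    have hu1 : u ≠ 1 := fun e' => hbc (by rw [← hub, e', one_smul])
    have hga' : g ∈ normalizer ((a : Subgroup X) : Set X) :=
      Sylow.smul_eq_iff_mem_normalizer.1 hga
    have hc : u⁻¹ * g * u * g⁻¹ ∈ (a : Subgroup X) := by
      rw [show u⁻¹ * g * u * g⁻¹ = u⁻¹ * (g * u * g⁻¹) by group]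
      exact mul_mem (inv_mem hu) ((mem_normalizer_iff.1 hga' u).1 hu)
    have hc' : (u⁻¹ * g * u * g⁻¹) • b = b := by
      rw [mul_smul, inv_smul_eq_iff.2 hgb.symm, mul_smul, mul_smul, hub, hgc, ← hub, inv_smul_smul]
    have hc1 : u⁻¹ * g * u * g⁻¹ = 1 := by
      by_contra hne
      exact hab (hsemi a b _ hc hne hc').symm
    have hgu : g ∈ cen u := mem_cent.2 (by
      calc g * u = u * (u⁻¹ * g * u * g⁻¹) * g := by group
        _ = u * g := by rw [hc1, mul_one])
    rw [hcen a u hu hu1] at hgu
    by_contra hne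
    exact hab (hsemi a b g hgu hne hgb).symm
  have hcard : Nat.card X = (q + 1) * q * e := by
    have h1 : 2 * Nat.card X + q = 2 * ((q + 1) * q * e) + q := by
      rw [D.card]
      calc 2 * (q * h * t) + q = q * (2 * (h * t) + 1) := by ring
        _ = q * (q * q) := by rw [hht]
        _ = 2 * ((q + 1) * q * e) + q := by rw [he]; ring
    omega
  have he2 : 2 ≤ e := by omega
  obtain ⟨A, B, hAB⟩ : ∃ A B : Sylow p X, A ≠ B := by
    by_contra hno
    push Not at hno
    haveI : Subsingleton (Sylow p X) := ⟨hno⟩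
    have := Finite.card_le_one_iff_subsingleton.2 (inferInstance : Subsingleton (Sylow p X))
    omega
  haveI hfaith : FaithfulSMul X (Sylow p X) := ⟨fun {g k} hgk => by
    obtain ⟨C, hCA, hCB⟩ : ∃ C : Sylow p X, C ≠ A ∧ C ≠ B := by
      by_contra hno
      push Not at hno
      have hle : (Set.univ : Set (Sylow p X)).ncard ≤ ({A, B} : Set (Sylow p X)).ncard :=
        Set.ncard_le_ncard (fun C _ => by
          by_cases hC : C = A
          · exact Or.inl hC
          · exact Or.inr (hno C hC)) (Set.toFinite _)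
      rw [Set.ncard_univ, hn, Set.ncard_pair hAB] at hle
      omega
    have := hthree (k⁻¹ * g) A B C hAB hCB.symm hCA.symm (by rw [mul_smul, hgk, inv_smul_smul])
      (by rw [mul_smul, hgk, inv_smul_smul]) (by rw [mul_smul, hgk, inv_smul_smul])
    exact (inv_mul_eq_one.1 this).symm⟩
  have hpairs : Nat.card {ab : Sylow p X × Sylow p X // ab.1 ≠ ab.2} = (q + 1) * q := by
    rw [Nat.card_congr (Equiv.subtypeProdEquivSigmaSubtype fun a b => a ≠ b), Nat.card_sigma]
    have hh : ∀ P : Sylow p X, Nat.card {b : Sylow p X // P ≠ b} = q := fun P => by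
      rw [Nat.card_eq_fintype_card, Fintype.card_subtype_compl, Fintype.card_subtype_eq',
        ← Nat.card_eq_fintype_card, hn]
      omega
    rw [Finset.sum_congr rfl (fun P _ => hh P), Finset.sum_const, smul_eq_mul, Finset.card_univ,
      ← Nat.card_eq_fintype_card, hn]
  have htwo : ∃ g : X, g ≠ 1 ∧ ∃ a b : Sylow p X, a ≠ b ∧ g • a = a ∧ g • b = b := by
    let ψ : X → {ab : Sylow p X × Sylow p X // ab.1 ≠ ab.2} := fun g =>
      ⟨(g • A, g • B), fun e' => hAB ((MulAction.injective g) e')⟩
    by_contra hno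
    push Not at hno
    have hinj : Function.Injective ψ := fun g k hgk => by
      have h1 : g • A = k • A := congrArg (fun z => z.1.1) hgk
      have h2 : g • B = k • B := congrArg (fun z => z.1.2) hgk
      by_contra hne
      exact hno (k⁻¹ * g) (fun e' => hne (inv_mul_eq_one.1 e').symm) A B hAB
        (by rw [mul_smul, h1, inv_smul_smul]) (by rw [mul_smul, h2, inv_smul_smul])
    have hle := Nat.card_le_card_of_injective ψ hinj
    rw [hpairs, hcard] at hle
    have h3 : (q + 1) * q * 2 ≤ (q + 1) * q * e := Nat.mul_le_mul_left _ he2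
    have h4 : 0 < (q + 1) * q := by positivity
    omega
  have hZ : Cfsg.IsZassenhausGroup X (Sylow p X) := by
    refine ⟨hfaith, h2t, hthree, htwo, fun N hN hNt => ?_⟩
    by_contra hno
    push Not at hno
    have hcN : Nat.card N = q + 1 := by
      have := (MulAction.stabilizer N A).card_mul_index
      rw [index_stabilizer_of_transitive N A, hno A, Subgroup.card_bot, one_mul, hn] at this
      exact this.symm
    obtain ⟨x, hxN, hx⟩ := (N.bot_or_exists_ne_one).resolve_left fun e' => by
      rw [e', Subgroup.card_bot] at hcN; omega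
    have hsub : cls x ⊆ (N : Set X) \ {1} := by
      rintro _ ⟨g, rfl⟩
      exact ⟨hN.conj_mem x hxN g, fun e' => hx (conj_eq_one_iff.1 e')⟩
    have hle := Set.ncard_le_ncard hsub (Set.toFinite _)
    have e1 := Set.ncard_sdiff_singleton_add_one (s := (N : Set X)) N.one_mem (Set.toFinite _)
    rw [← Nat.card_coe_set_eq (cls x), card_cls] at hle
    rw [← Nat.card_coe_set_eq (N : Set X)] at e1
    have hN' : Nat.card (N : Set X) = q + 1 := hcN
    have hidx : idx x ≤ q := by omega
    have h1 := idx_mul_cc x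
    rw [D.card] at h1
    have h2 : idx x * cc x ≤ q * cc x := Nat.mul_le_mul_right _ hidx
    have hh1 := D.h_gt
    have ht1 := D.t_gt
    rcases D.cent x hx with e' | e' | ⟨e', -⟩
    · rw [e'] at h1 h2
      nlinarith [Nat.mul_le_mul_left q (show q ≤ 4 * q from by omega),
        Nat.mul_le_mul_right q hq4]
    · rw [e'] at h1 h2
      nlinarith [Nat.mul_le_mul_left (q * h) (show 2 ≤ t from ht1)]
    · have h3 := Nat.mul_le_mul_left q (Nat.le_of_dvd (by omega) e')
      nlinarith [Nat.mul_le_mul_right t (Nat.mul_le_mul_left q (show 2 ≤ h from hh1))]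
  haveI : Nontrivial X := Finite.one_lt_card_iff_nontrivial.1 (by
    rw [hcard]
    calc 1 < e := he2
      _ ≤ (q + 1) * q * e := Nat.le_mul_of_pos_left _ (by positivity))
  haveI : IsSimpleGroup X := ⟨fun N hN => by
    by_contra hne
    push Not at hne
    haveI := hN
    have hZN := Cfsg.Agent.S0339.result hZ N hne.1
    have hd : (q + 1) * q ∣ Nat.card N := by
      have hN2 := hZN.2.1
      rw [is_two_pretransitive_iff] at hN2
      letI : MulAction N {ab : Sylow p X × Sylow p X // ab.1 ≠ ab.2} :=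
        { smul := fun g ab => ⟨(g • ab.1.1, g • ab.1.2), fun e' => ab.2 ((MulAction.injective g) e')⟩
          one_smul := fun ab => Subtype.ext (Prod.ext (one_smul N _) (one_smul N _))
          mul_smul := fun g k ab => Subtype.ext (Prod.ext (mul_smul g k _) (mul_smul g k _)) }
      haveI : IsPretransitive N {ab : Sylow p X × Sylow p X // ab.1 ≠ ab.2} := ⟨fun ab cd => by
        obtain ⟨g, hg1, hg2⟩ := hN2 ab.2 cd.2
        exact ⟨g, Subtype.ext (Prod.ext hg1 hg2)⟩⟩
      rw [← hpairs, ← index_stabilizer_of_transitive N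
        (⟨(A, B), hAB⟩ : {ab : Sylow p X × Sylow p X // ab.1 ≠ ab.2})]
      exact index_dvd_card _
    have hidx : N.index ∣ e := by
      obtain ⟨k, hk⟩ := hd
      have h1 := N.card_mul_index
      rw [hk, hcard, mul_assoc] at h1
      exact ⟨k, (Nat.eq_of_mul_eq_mul_left (by positivity) h1).symm.trans (mul_comm _ _)⟩
    have hout : ∀ x, x ∉ N → ∃ r, r.Prime ∧ r ∣ cc x ∧ r ∣ e := by
      intro x hx
      have hnc : ¬ (orderOf x).Coprime N.index := by
        intro hco
        apply hx
        rw [← QuotientGroup.eq_one_iff, ← orderOf_eq_one_iff]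
        refine Nat.eq_one_of_dvd_coprimes hco (orderOf_map_dvd (QuotientGroup.mk' N) x) ?_
        rw [index_eq_card]
        exact orderOf_dvd_natCard _
      obtain ⟨r, hr, hr1, hr2⟩ := Nat.Prime.not_coprime_iff_dvd.1 hnc
      exact ⟨r, hr, hr1.trans (orderOf_dvd_cc (mem_cent.2 rfl)), hr2.trans hidx⟩
    rcases hed with hd' | hd'
    · exact D.false_of_outside N hne.2 (Or.inr (Or.inl rfl))
        fun x hx => (hout x hx).imp fun r hr => ⟨hr.1, hr.2.1, hr.2.2.trans hd'⟩
    · exact D.false_of_outside N hne.2 (Or.inr (Or.inr rfl))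
        fun x hx => (hout x hx).imp fun r hr => ⟨hr.1, hr.2.1, hr.2.2.trans hd'⟩⟩
  exact Cfsg.Agent.S0340.result hZ

end Cents

end Cfsg.Agent.Lib.PSLSizes75
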