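import Mathlib

/-!
# Arithmetic of the parameters of `PSL₂(q)`
-/

set_option autoImplicit false

namespace Cfsg.Agent.Lib.PSLSizes75

/-- The parameters `h`, `t` attached to `q`. -/
def Params (q h t : ℕ) : Prop :=
  (q % 2 = 0 ∧ 4 ≤ q ∧ h = q + 1 ∧ t + 1 = q) ∨
    (q % 4 = 1 ∧ 7 ≤ q ∧ 2 * h = q + 1 ∧ t + 1 = q) ∨
      (q % 4 = 3 ∧ 7 ≤ q ∧ 2 * h + 1 = q ∧ t = q + 1)

theorem coprime_of_dvd_two {a b : ℕ} (h : Nat.gcd a b ∣ 2) (ha : Odd a) : a.Coprime b := by
  rcases (Nat.dvd_prime Nat.prime_two).1 h with h1 | h1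
  · exact h1
  · exfalso
    have h2 : 2 ∣ a := h1 ▸ Nat.gcd_dvd_left a b
    obtain ⟨k, hk⟩ := ha
    omega

namespace Params

variable {q h t : ℕ} (P : Params q h t)
include P

theorem four_le : 4 ≤ q := by rcases P with P | P | P <;> omega

theorem h_gt : 1 < h := by rcases P with P | P | P <;> omega

theorem t_gt : 1 < t := by rcases P with P | P | P <;> omega

theorem t_lt : t < 2 * q := by rcases P with P | P | P <;> omega

theorem h_odd : Odd h := by rw [Nat.odd_iff]; rcases P with P | P | P <;> omega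

theorem odd_or_four : Odd t ∨ 4 ∣ t := by
  rcases P with P | P | P
  · exact Or.inl (Nat.odd_iff.2 (by omega))
  · exact Or.inr (by omega)
  · exact Or.inr (by omega)

theorem mult : (q % 2 = 0 ∧ h * t + 1 = q * q) ∨ (q % 2 = 1 ∧ 2 * (h * t) + 1 = q * q) := by
  rcases P with ⟨h2, -, rfl, rfl⟩ | ⟨h4, -, hh, rfl⟩ | ⟨h4, -, rfl, rfl⟩
  · exact Or.inl ⟨h2, by ring⟩
  · exact Or.inr ⟨by omega, by rw [← mul_assoc, hh]; ring⟩
  · exact Or.inr ⟨by omega, by ring⟩

theorem qh : q.Coprime h := by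
  have key : Nat.gcd q h ∣ 1 := by
    rcases P with ⟨-, -, rfl, -⟩ | ⟨-, -, hh, -⟩ | ⟨-, -, rfl, -⟩
    · exact (Nat.dvd_add_right (Nat.gcd_dvd_left q (q + 1))).1 (Nat.gcd_dvd_right q (q + 1))
    · have e : Nat.gcd q h ∣ 2 * h := (Nat.gcd_dvd_right q h).mul_left 2
      rw [hh] at e
      exact (Nat.dvd_add_right (Nat.gcd_dvd_left q h)).1 e
    · exact (Nat.dvd_add_right ((Nat.gcd_dvd_right (2 * h + 1) h).mul_left 2)).1
        (Nat.gcd_dvd_left (2 * h + 1) h)
  exact Nat.dvd_one.1 key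

theorem qt : q.Coprime t := by
  have key : Nat.gcd q t ∣ 1 := by
    rcases P with ⟨-, -, -, rfl⟩ | ⟨-, -, -, rfl⟩ | ⟨-, -, -, rfl⟩
    · exact (Nat.dvd_add_right (Nat.gcd_dvd_right (t + 1) t)).1 (Nat.gcd_dvd_left (t + 1) t)
    · exact (Nat.dvd_add_right (Nat.gcd_dvd_right (t + 1) t)).1 (Nat.gcd_dvd_left (t + 1) t)
    · exact (Nat.dvd_add_right (Nat.gcd_dvd_left q (q + 1))).1 (Nat.gcd_dvd_right q (q + 1))
  exact Nat.dvd_one.1 key

theorem ht : h.Coprime t := by
  have hodd := P.h_odd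
  refine coprime_of_dvd_two ?_ hodd
  have h1 := (Nat.gcd_dvd_left h t).mul_left 2
  have h2 := Nat.gcd_dvd_right h t
  rcases P with ⟨-, -, rfl, rfl⟩ | ⟨-, -, hh, rfl⟩ | ⟨-, -, rfl, rfl⟩
  · exact (Nat.dvd_add_right h2).1 ((show t + 1 + 1 = t + 2 by omega) ▸ Nat.gcd_dvd_left (t + 1 + 1) t)
  · rw [hh] at h1
    exact (Nat.dvd_add_right h2).1 ((show t + 1 + 1 = t + 2 by omega) ▸ h1)
  · exact (Nat.dvd_add_right h1).1 ((show 2 * h + 1 + 1 = 2 * h + 2 by omega) ▸ h2)

theorem hh : ∃ j, q * t = 2 + h * j := by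
  rcases P with ⟨-, h4, rfl, rfl⟩ | ⟨-, h7, hh, rfl⟩ | ⟨-, -, rfl, rfl⟩
  · obtain ⟨s, rfl⟩ : ∃ s, t = s + 1 := ⟨t - 1, by omega⟩
    exact ⟨s, by ring⟩
  · obtain ⟨s, rfl⟩ : ∃ s, t = s + 1 := ⟨t - 1, by omega⟩
    refine ⟨2 * s, ?_⟩
    rw [← mul_assoc, mul_comm h, hh]; ring
  · exact ⟨4 * h + 6, by ring⟩

theorem h_le : h ≤ q + 1 := by rcases P with P | P | P <;> omega

theorem t_le : t ≤ q + 1 := by rcases P with P | P | P <;> omega

theorem three_dvd : 3 ∣ q * h * t := by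
  have h3 : q % 3 = 0 ∨ h * t % 3 = 0 := by
    have hm := P.mult
    have := Nat.mul_mod q q 3
    rcases (show q % 3 = 0 ∨ q % 3 = 1 ∨ q % 3 = 2 by omega) with e | e | e
    · exact Or.inl e
    · rw [e] at this; omega
    · rw [e] at this; omega
  rcases h3 with h3 | h3
  · exact ((Nat.dvd_of_mod_eq_zero h3).mul_right h).mul_right t
  · rw [mul_assoc]; exact (Nat.dvd_of_mod_eq_zero h3).mul_left q

theorem sum_gt : q < h * t ∧ h < q * t ∧ t < q * h := by
  have h1 := P.four_le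
  have h2 := P.h_gt
  have h3 := P.t_gt
  have h4 := P.h_le
  have h5 := P.t_lt
  refine ⟨?_, ?_, ?_⟩
  · rcases P.mult with ⟨-, e⟩ | ⟨-, e⟩ <;> nlinarith
  · nlinarith
  · nlinarith

theorem card_ge : 60 ≤ q * h * t := by
  have h1 := P.four_le
  rcases P.mult with ⟨-, e⟩ | ⟨h2, e⟩
  · rw [mul_assoc]; nlinarith
  · have h7 : 7 ≤ q := by rcases P with P | P | P <;> omega
    rw [mul_assoc]; nlinarith

end Params

theorem mono {a b : ℕ} (ha : 1 ≤ a) (hab : a < b) : a * (a * a - 1) < b * (b * b - 1) := by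
  have h1 : a * a < b * b := Nat.mul_lt_mul'' hab hab
  have h2 : 1 ≤ a * a := Nat.mul_pos ha ha
  exact Nat.mul_lt_mul'' hab (by omega)

/-- An odd prime power next to a power of two is a prime or nine. -/
theorem exponent_le_two {p f s : ℕ} (hp : p.Prime) (hp2 : p ≠ 2) (hf : 0 < f)
    (h : p ^ f = 2 ^ s + 1 ∨ p ^ f + 1 = 2 ^ s) (h7 : 7 ≤ p ^ f) : f = 1 ∨ f = 2 := by
  have hpo : Odd p := hp.eq_two_or_odd'.resolve_left hp2
  have hs : 2 ≤ s := by
    by_contra hs
    interval_cases s <;> simp only [pow_zero, pow_one] at h <;> omega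
  have h2 : (2 : ℕ) ^ 2 ∣ 2 ^ s := pow_dvd_pow 2 hs
  rcases Nat.even_or_odd f with ⟨g, rfl⟩ | hfo
  · -- `f` even: `p ^ f` is a square
    rw [← two_mul, pow_mul'] at h h7
    obtain ⟨n, hn⟩ := hpo.pow (n := g)
    rw [hn, pow_two] at h h7
    rcases h with h | h
    swap
    · exfalso
      obtain ⟨k, hk⟩ := h2
      rw [hk] at h
      have : (2 * n + 1) * (2 * n + 1) = 4 * (n * n + n) + 1 := by ring
      omega
    have hm : n * (n + 1) * 4 = 2 ^ s := by
      have : (2 * n + 1) * (2 * n + 1) = n * (n + 1) * 4 + 1 := by ring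
      omega
    have hn1 : n ∣ 2 ^ s := ⟨(n + 1) * 4, by rw [← hm]; ring⟩
    have hn2 : n + 1 ∣ 2 ^ s := ⟨n * 4, by rw [← hm]; ring⟩
    obtain ⟨a, -, ha⟩ := (Nat.dvd_prime_pow Nat.prime_two).1 hn1
    obtain ⟨b, -, hb⟩ := (Nat.dvd_prime_pow Nat.prime_two).1 hn2
    have hn' : n = 1 := by
      rcases Nat.eq_zero_or_pos a with rfl | ha'
      · simpa using ha
      rcases Nat.eq_zero_or_pos b with rfl | hb'
      · rw [pow_zero] at hb; have : 0 < n := ha ▸ Nat.two_pow_pos a; omega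
      exfalso
      obtain ⟨x, hx⟩ := dvd_pow_self 2 ha'.ne'
      obtain ⟨y, hy⟩ := dvd_pow_self 2 hb'.ne'
      omega
    subst hn'
    right
    have hpg : p ^ g = 3 := by omega
    rcases Nat.eq_zero_or_pos g with rfl | hg
    · simp at hpg
    · have h3 : g = 1 := by
        by_contra hg1
        have : p ^ 2 ≤ 3 := hpg ▸ Nat.pow_le_pow_right hp.pos (by omega)
        have := Nat.pow_le_pow_left hp.two_le 2
        omega
      omega
  · -- `f` odd
    left
    have key : ∀ x : ℤ, Odd x → |x ^ f - 1| = 2 ^ s → |x ^ f - 1| = |x - 1| := by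
      intro x hx hxs
      set S := ∑ i ∈ Finset.range f, x ^ i
      have hS : S * (x - 1) = x ^ f - 1 := geom_sum_mul x f
      have hSodd : (S : ZMod 2) = 1 := by
        have hx1 : (x : ZMod 2) = 1 := by
          obtain ⟨k, rfl⟩ := hx
          push_cast
          rw [show (2 : ZMod 2) = 0 from rfl, zero_mul, zero_add]
        simp only [S, Int.cast_sum, Int.cast_pow, hx1, one_pow, Finset.sum_const, Finset.card_range,
          nsmul_eq_mul, mul_one]
        exact ZMod.natCast_eq_one_iff_odd.2 hfo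
      have habs : S.natAbs ∣ 2 ^ s := by
        have h1 : S.natAbs ∣ (x ^ f - 1).natAbs := ⟨(x - 1).natAbs, by rw [← hS, Int.natAbs_mul]⟩
        have h3 : ((x ^ f - 1).natAbs : ℤ) = ((2 ^ s : ℕ) : ℤ) := by
          rw [Int.natCast_natAbs, hxs]; push_cast; rfl
        rwa [Int.ofNat_inj.1 h3] at h1
      obtain ⟨a, -, ha⟩ := (Nat.dvd_prime_pow Nat.prime_two).1 habs
      rcases Nat.eq_zero_or_pos a with rfl | ha0
      · rw [← hS, abs_mul, ← Int.natCast_natAbs S, ha]; simp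
      · exfalso
        have : ((2 : ℕ) : ℤ) ∣ S := Int.natCast_dvd.2 (ha ▸ dvd_pow_self 2 ha0.ne')
        rw [(ZMod.intCast_zmod_eq_zero_iff_dvd S 2).2 this] at hSodd
        exact absurd hSodd (by decide)
    have hp1 := hp.two_le
    have hcast : ((p ^ f : ℕ) : ℤ) = (p : ℤ) ^ f := by push_cast; rfl
    have hpf : p ^ f = p := by
      rcases h with h | h
      · have h' : ((p ^ f : ℕ) : ℤ) = 2 ^ s + 1 := by rw [h]; push_cast; rfl
        rw [hcast] at h'
        have := key p (by exact_mod_cast hpo) (by rw [h', add_sub_cancel_right, abs_of_pos]; positivity)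
        rw [abs_of_nonneg (by rw [h']; simp), abs_of_nonneg (by omega)] at this
        have e : (p : ℤ) ^ f = p := by linarith
        exact_mod_cast e
      · have h' : ((p ^ f : ℕ) : ℤ) + 1 = 2 ^ s := by exact_mod_cast h
        rw [hcast] at h'
        have hneg : (-(p : ℤ)) ^ f = -(p : ℤ) ^ f := hfo.neg_pow _
        have := key (-(p : ℤ)) (by simpa using (show Odd (p : ℤ) by exact_mod_cast hpo)) (by
          rw [hneg, show -(p : ℤ) ^ f - 1 = -((p : ℤ) ^ f + 1) by ring, abs_neg, h',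
            abs_of_pos]; positivity)
        rw [hneg, show -(p : ℤ) ^ f - 1 = -((p : ℤ) ^ f + 1) by ring, abs_neg,
          show -(p : ℤ) - 1 = -((p : ℤ) + 1) by ring, abs_neg, abs_of_nonneg (by positivity),
          abs_of_nonneg (by positivity)] at this
        have e : (p : ℤ) ^ f = p := by linarith
        exact_mod_cast e
    exact Nat.pow_right_injective hp.two_le (hpf.trans (pow_one p).symm)

end Cfsg.Agent.Lib.PSLSizes75
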