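import Cfsg.Agent.Lib.ThreeSizes.Basic
import Cfsg.Agent.Lib.ClassSize.Counting

/-!
# Class sizes with coprime cofactors: the central quotient has the smallest possible order
-/

set_option autoImplicit false

namespace Cfsg.Agent.Lib.PSLSizes75

open Subgroup ClassSizeTop ThreeSizes

universe u

variable {G : Type u} [Group G] [Finite G]

/-- The non-central class sizes are the quotients of `N` by the members of `C`; those in `R` are
both minimal and maximal under divisibility. -/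
structure Cof (G : Type u) [Group G] (N : ℕ) (C R : Set ℕ) : Prop where
  cof : ∀ x : G, x ∉ center G → ∃ c ∈ C, idx x * c = N
  occ : ∀ c ∈ C, ∃ x : G, x ∉ center G ∧ idx x * c = N
  rigR : R ⊆ C
  rigid : ∀ c ∈ R, ∀ c' ∈ C, c ∣ c' ∨ c' ∣ c → c' = c
  pos : 0 < N
  pick : ∀ l : ℕ, l.Prime → ∀ s c0 : ℕ, c0 ∈ C → s * c0 = N → ¬ l ∣ s →
    ∃ c ∈ R, c ≠ c0 ∧ ∃ r : ℕ, r.Prime ∧ r ≠ l ∧ r ∣ c
  free : ∀ l : ℕ, l.Prime → ∃ s c0 : ℕ, c0 ∈ C ∧ s * c0 = N ∧ ¬ l ∣ s
  cop : ∃ c ∈ C, ∃ c' ∈ C, Nat.Coprime c c'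

theorem exists_conj_mem_of_el {l : ℕ} [Fact l.Prime] (L : Sylow l G) {w : G} (hw : El l w) :
    ∃ g : G, g * w * g⁻¹ ∈ (L : Subgroup G) := by
  obtain ⟨k, hk⟩ := hw.orderOf_dvd
  obtain ⟨j, -, hj⟩ := (Nat.dvd_prime_pow Fact.out).1 hk
  obtain ⟨Q, hQ⟩ := (IsPGroup.of_card (n := j) (p := l) (G := zpowers w)
    (by rw [Nat.card_zpowers, hj])).exists_le_sylow
  obtain ⟨g, hg⟩ := MulAction.exists_smul_eq G Q L
  refine ⟨g, ?_⟩
  rw [← hg, Sylow.coe_subgroup_smul, Subgroup.mem_pointwise_smul_iff_inv_smul_mem]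
  simpa [MulAut.inv_apply, MulAut.conj_symm_apply, MulAut.smul_def, mul_assoc] using
    hQ (mem_zpowers w)

theorem cen_mul_left_le {r s : ℕ} {u v : G} (hr : r.Prime) (hs : s.Prime) (hrs : r ≠ s)
    (hu : El r u) (hv : El s v) (h : v ∈ cen u) (hu' : u ∉ center G) :
    u * v ∉ center G ∧ cen (u * v) ≤ cen u ∧ cen (u * v) ≤ cen v := by
  have hm := cen_mul hr hs hrs hu hv h
  refine ⟨fun hc => hu' (mem_center_iff.2 fun g => mem_cent.1 (?_ : g ∈ cen u)),
    hm.le.trans inf_le_left, hm.le.trans inf_le_right⟩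
  have h2 : g ∈ cen (u * v) := mem_cent.2 (mem_center_iff.1 hc g)
  rw [hm] at h2
  exact h2.1

namespace Cof

variable {N : ℕ} {C R : Set ℕ} (D : Cof G N C R)
include D

theorem pos_of_mem {c : ℕ} (hc : c ∈ C) : 0 < c := by
  obtain ⟨x, -, hx⟩ := D.occ c hc
  exact Nat.pos_of_mul_pos_left (hx ▸ D.pos)

theorem dvd_index_center : N ∣ (center G).index := by
  obtain ⟨c, hc, c', hc', hcop⟩ := D.cop
  have key : ∀ e ∈ C, N ∣ (center G).index * e := fun e he => by
    obtain ⟨x, -, hx⟩ := D.occ e he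
    exact ⟨kk x, by rw [← kk_mul x, ← hx]; ring⟩
  have h := Nat.dvd_gcd (key c hc) (key c' hc')
  rwa [Nat.gcd_mul_left, hcop.gcd_eq_one, mul_one] at h

theorem kk_eq {k c : ℕ} (hk : (center G).index = N * k) {x : G} (hx : idx x * c = N) :
    kk x = k * c := by
  have h := kk_mul x
  rw [hk, ← hx] at h
  exact Nat.eq_of_mul_eq_mul_right (idx_pos x) (h.trans (by ring))

theorem rigid_eq {x y : G} {c : ℕ} (hc : c ∈ R) (hx : idx x * c = N) (hy : y ∉ center G)
    (h : cen y ≤ cen x ∨ cen x ≤ cen y) : cen y = cen x ∧ idx y * c = N := by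
  obtain ⟨c', hc', hy'⟩ := D.cof y hy
  have hd : idx x ∣ idx y ∨ idx y ∣ idx x :=
    h.imp (fun e => index_dvd_of_le e) fun e => index_dvd_of_le e
  have hcc : c ∣ c' ∨ c' ∣ c := by
    rcases hd with ⟨t, ht⟩ | ⟨t, ht⟩
    · right
      refine ⟨t, Nat.eq_of_mul_eq_mul_left (idx_pos x) ?_⟩
      rw [hx, ← hy', ht]
      ring
    · left
      refine ⟨t, Nat.eq_of_mul_eq_mul_left (idx_pos y) ?_⟩
      rw [hy', ← hx, ht]
      ring
  have hcc' := D.rigid c hc c' hc' hcc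
  rw [hcc'] at hy'
  have hidx : idx x = idx y :=
    Nat.eq_of_mul_eq_mul_right (D.pos_of_mem (D.rigR hc)) (hx.trans hy'.symm)
  refine ⟨?_, hy'⟩
  rcases h with h | h
  · exact eq_of_le_of_idx h hidx.symm
  · exact (eq_of_le_of_idx h hidx).symm

theorem index_center : (center G).index = N := by
  obtain ⟨k, hk⟩ := D.dvd_index_center
  by_contra hne
  have hk1 : k ≠ 1 := fun h => hne (by rw [hk, h, mul_one])
  obtain ⟨l, hl, hlk⟩ := Nat.exists_prime_and_dvd hk1
  haveI := Fact.mk hl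
  -- an element of class size prime to `l`, and its primary part
  obtain ⟨s, c1, hc1, hsc, hls⟩ := D.free l hl
  obtain ⟨x, hxZ, hx⟩ := D.occ c1 hc1
  have hxs : idx x = s := Nat.eq_of_mul_eq_mul_right (D.pos_of_mem hc1) (hx.trans hsc.symm)
  obtain ⟨L, hL⟩ := ClassSize.exists_sylow_le_centralizer (p := l) (x := x)
    (show ¬ l ∣ idx x from hxs ▸ hls)
  obtain ⟨p, hp, x0, hx0m, hx0, hx0Z⟩ := exists_noncentral_part hxZ
  have hLx0 : (L : Subgroup G) ≤ cen x0 := hL.trans (cen_le_of_mem_zpowers hx0m)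
  have hl0 : ¬ l ∣ idx x0 := fun h => hls
    (hxs ▸ h.trans (index_dvd_of_le (cen_le_of_mem_zpowers hx0m)))
  obtain ⟨c0, hc0, hx0c⟩ := D.cof x0 hx0Z
  -- a rigid size, represented by an element of prime order other than `l`
  obtain ⟨c, hc, hcne, r, hr, hrl, hrc⟩ := D.pick l hl _ c0 hc0 hx0c hl0
  obtain ⟨y, hyZ, hy⟩ := D.occ c (D.rigR hc)
  haveI := Fact.mk hr
  obtain ⟨q, e, hq, hql, he, heZ, hec⟩ : ∃ (q : ℕ) (e : G), q.Prime ∧ q ≠ l ∧ El q e ∧
      e ∉ center G ∧ idx e * c = N := by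
    obtain ⟨o, ho, y0, hy0m, hy0, hy0Z⟩ := exists_noncentral_part hyZ
    obtain ⟨-, hy0c⟩ := D.rigid_eq hc hy hy0Z (Or.inr (cen_le_of_mem_zpowers hy0m))
    by_cases hol : o = l
    swap
    · exact ⟨o, y0, ho, hol, hy0, hy0Z, hy0c⟩
    obtain ⟨e, hey, he, heZ⟩ := exists_el_of_dvd (A := cen y0) (r := r)
      (show r ∣ kk y0 from (D.kk_eq hk hy0c).symm ▸ hrc.mul_left k)
    obtain ⟨h1, h2, h3⟩ := cen_mul_left_le ho hr (hol ▸ hrl.symm) hy0 he hey hy0Z
    obtain ⟨h4, -⟩ := D.rigid_eq hc hy0c h1 (Or.inl h2)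
    exact ⟨r, e, hr, hrl, he, heZ, (D.rigid_eq hc hy0c heZ (Or.inr (h4 ▸ h3))).2⟩
  -- an `l`-element with the same centralizer
  obtain ⟨w, hwe, hw, hwZ⟩ := exists_el_of_dvd (A := cen e) (r := l)
    (show l ∣ kk e from (D.kk_eq hk hec).symm ▸ hlk.mul_right c)
  have hcw : cen w = cen e ∧ idx w * c = N := by
    obtain ⟨h1, h2, h3⟩ := cen_mul_left_le hq hl hql he hw hwe heZ
    obtain ⟨h4, -⟩ := D.rigid_eq hc hec h1 (Or.inl h2)
    exact D.rigid_eq hc hec hwZ (Or.inr (h4 ▸ h3))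
  obtain ⟨g, hg⟩ := exists_conj_mem_of_el L hw
  have hnc : ∀ {a : G}, a ∉ center G → g * a * g⁻¹ ∉ center G := fun ha hc' => ha (by
    simpa [mul_assoc] using (inferInstance : (center G).Normal).conj_mem _ hc' g⁻¹)
  have hx0w : x0 ∈ cen (g * w * g⁻¹) := mem_cen_comm (hLx0 hg)
  have hew : cen (g * e * g⁻¹) = cen (g * w * g⁻¹) := by
    show centralizer ({g * e * g⁻¹} : Set G) = centralizer ({g * w * g⁻¹} : Set G)
    rw [cent_conj, cent_conj]
    exact congrArg _ hcw.1.symm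
  -- both conjugates commute with `x0`; one of them has coprime order
  obtain ⟨o, u, ho, hop, hu, huZ, hux, huc⟩ : ∃ (o : ℕ) (u : G), o.Prime ∧ o ≠ p ∧ El o u ∧
      u ∉ center G ∧ x0 ∈ cen u ∧ idx u * c = N := by
    by_cases hpl : p = l
    · exact ⟨q, g * e * g⁻¹, hq, hpl ▸ hql, he.conj g, hnc heZ, hew ▸ hx0w,
        (idx_conj g e).symm ▸ hec⟩
    · exact ⟨l, g * w * g⁻¹, hl, Ne.symm hpl, hw.conj g, hnc hwZ, hx0w,
        (idx_conj g w).symm ▸ hcw.2⟩
  obtain ⟨h1, h2, h3⟩ := cen_mul_left_le ho hp hop hu hx0 hux huZ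
  obtain ⟨h4, -⟩ := D.rigid_eq hc huc h1 (Or.inl h2)
  have h5 := (D.rigid_eq hc huc hx0Z (Or.inr (h4 ▸ h3))).2
  exact hcne (Nat.eq_of_mul_eq_mul_left (idx_pos x0) (h5.trans hx0c.symm))

theorem kk_eq_cof {c : ℕ} {x : G} (hx : idx x * c = N) : kk x = c := by
  have h := D.kk_eq (k := 1) (by rw [mul_one]; exact D.index_center) hx
  rwa [one_mul] at h

/-- The centralizer of the image of `x` is a little larger than the image of the centralizer. -/
theorem quot_cent {x : G} (hx : x ∉ center G) :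
    ∃ c ∈ C, idx x * c = N ∧ orderOf (x : G ⧸ center G) ∣ c ∧ ∃ ℓ : ℕ,
      Nat.card (centralizer ({(x : G ⧸ center G)} : Set (G ⧸ center G))) = c * ℓ ∧
      ℓ ∣ idx x ∧ (∀ p : ℕ, p.Prime → p ∣ ℓ → p ∣ orderOf (x : G ⧸ center G)) ∧
      (ℓ = 1 → ∀ g : G,
        (g : G ⧸ center G) ∈ centralizer ({(x : G ⧸ center G)} : Set (G ⧸ center G)) → g ∈ cen x) := by
  obtain ⟨c, hc, hxc⟩ := D.cof x hx
  set X := G ⧸ center G
  set CX := centralizer ({(x : X)} : Set X)
  set M := CX.comap (QuotientGroup.mk' (center G))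
  have hmem : ∀ g, g ∈ M → g * x * g⁻¹ * x⁻¹ ∈ center G := fun g hg => by
    have h := ClassSizeTop.mem_cent.1 (mem_comap.1 hg)
    rw [← QuotientGroup.eq_one_iff]
    simp only [QuotientGroup.mk'_apply] at h
    simp [h]
  let φ : M →* center G :=
    { toFun := fun g => ⟨g * x * (g : G)⁻¹ * x⁻¹, hmem g g.2⟩
      map_one' := Subtype.ext (by simp)
      map_mul' := fun a b => Subtype.ext (by
        show (a : G) * b * x * ((a : G) * b)⁻¹ * x⁻¹ =
          (a : G) * x * (a : G)⁻¹ * x⁻¹ * ((b : G) * x * (b : G)⁻¹ * x⁻¹)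
        have hz := mem_center_iff.1 (hmem b b.2) ((a : G) * x * (a : G)⁻¹ * x⁻¹)
        rw [hz]
        have hz2 := mem_center_iff.1 (hmem b b.2) (a : G)
        calc (a : G) * b * x * ((a : G) * b)⁻¹ * x⁻¹
            = (a : G) * ((b : G) * x * (b : G)⁻¹ * x⁻¹) * x * (a : G)⁻¹ * x⁻¹ := by group
          _ = (b : G) * x * (b : G)⁻¹ * x⁻¹ * ((a : G) * x * (a : G)⁻¹ * x⁻¹) := by
              rw [hz2]; group) }
  have hxM : cen x ≤ M := fun g hg => mem_comap.2 (ClassSizeTop.mem_cent.2 (by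
    simp only [QuotientGroup.mk'_apply]
    rw [← QuotientGroup.mk_mul, ← QuotientGroup.mk_mul, mem_cent.1 hg]))
  have hker : φ.ker = (cen x).subgroupOf M := by
    ext g
    rw [MonoidHom.mem_ker, mem_subgroupOf, mem_cent_iff_conj, Subtype.ext_iff]
    exact mul_inv_eq_one
  have hrange : Nat.card φ.range = (cen x).relIndex M := by
    show Nat.card φ.range = ((cen x).subgroupOf M).index
    rw [← hker, Subgroup.index_ker]
  have hxCX : (x : X) ∈ (cen x).map (QuotientGroup.mk' (center G)) := ⟨x, mem_cent.2 rfl, rfl⟩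
  have hKc : Nat.card ((cen x).map (QuotientGroup.mk' (center G))) = c := by
    have h1 := Subgroup.card_mul_index ((cen x).map (QuotientGroup.mk' (center G)))
    rw [index_map_eq _ (QuotientGroup.mk'_surjective _) (by
      rw [QuotientGroup.ker_mk']; exact center_le_cen x), ← index_eq_card, D.index_center,
      ← hxc, mul_comm (idx x)] at h1
    exact Nat.eq_of_mul_eq_mul_right (idx_pos x) h1
  refine ⟨c, hc, hxc, ?_, (cen x).relIndex M, ?_, ?_, fun p hp hpl => ?_, fun h1 g hg => ?_⟩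
  · rw [← hKc, ← Subgroup.orderOf_mk (x : X) hxCX]
    exact orderOf_dvd_natCard _
  · have h1 := Subgroup.card_mul_index CX
    have h2 : M.index = CX.index := index_comap_of_surjective _ (QuotientGroup.mk'_surjective _)
    have h3 : (cen x).relIndex M * CX.index = idx x := h2 ▸ relIndex_mul_index hxM
    refine Nat.eq_of_mul_eq_mul_right
      (Nat.pos_of_ne_zero (FiniteIndex.index_ne_zero (H := CX))) ?_
    rw [h1, mul_assoc, h3, mul_comm, hxc, ← index_eq_card, D.index_center]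
  · exact ⟨M.index, (relIndex_mul_index hxM).symm⟩
  · haveI := Fact.mk hp
    obtain ⟨⟨z, g, rfl⟩, hz⟩ := exists_prime_orderOf_dvd_card' p (hrange ▸ hpl)
    rw [← hz, ← Subgroup.orderOf_coe]
    refine orderOf_dvd_of_pow_eq_one (Subtype.ext ?_)
    set n := orderOf (x : X)
    have hn : x ^ n ∈ center G := by
      rw [← QuotientGroup.eq_one_iff, QuotientGroup.mk_pow, pow_orderOf_eq_one]
    show ((g : G) * x * (g : G)⁻¹ * x⁻¹) ^ n = 1
    have hcomm : Commute ((g : G) * x * (g : G)⁻¹ * x⁻¹) x :=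
      (mem_center_iff.1 (hmem g g.2) x).symm
    have h := hcomm.mul_pow n
    rw [inv_mul_cancel_right, conj_pow, mem_center_iff.1 hn (g : G), mul_inv_cancel_right] at h
    exact right_eq_mul.1 h |>.trans rfl
  · have h2 : (cen x).subgroupOf M = ⊤ := index_eq_one.1 h1
    exact subgroupOf_eq_top.1 h2 (mem_comap.2 hg)

end Cof

end Cfsg.Agent.Lib.PSLSizes75
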